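import Groth.Agent.FinDualFunLib.Proj
import Groth.Agent.KiehlLib.RestrLift
import Groth.Agent.PerfNoethLib.PCCoh
import Groth.Agent.DevissLib.ClosedImm
import Groth.Agent.QCohLib.Coherent
import Groth.Agent.S1115
import Groth.Prelude.Def_Dual3
import Mathlib.CategoryTheory.Adjunction.Restrict

/-!
# `Rf_* f^! ≅ RHom(f_*O, -)` for finite morphisms
-/

set_option autoImplicit false
set_option linter.style.haveILetI false
set_option backward.isDefEq.respectTransparency false
set_option backward.isDefEq.respectTransparency.types false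
set_option maxHeartbeats 1000000

universe u

open CategoryTheory CategoryTheory.Limits AlgebraicGeometry Opposite
open Groth.Agent.DerLib Groth.Agent.PerfDualLib Groth.Agent

attribute [local instance] HasDerivedCategory.standard

noncomputable section

namespace FinDualFunLib

theorem nonempty_rpush_rightAdjoint_iso {Y X : Scheme.{u}} [IsNoetherian X] [IsNoetherian Y]
    (f : Y ⟶ X) [IsFinite f] [DCoh.HasRpush f] (hf : DCoh.RpushPreservesQCoh f)
    (a : DCoh.DQCoh X ⥤ DCoh.DQCoh Y) (adj : DCoh.RpushQ f hf ⊣ a) (E : CochainComplex X.Modules ℤ)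
    (hE : Nonempty (DCoh.toD X E ≅ DCoh.inD X ((Scheme.Modules.pushforward f).obj (Coh.structureModule Y))))
    [DCoh.HasLTensorCx E] [DCoh.HasRSheafHom E] :
    Nonempty (Dual3.bddι X ⋙ a ⋙ DCoh.RpushQ f hf ⋙ ObjectProperty.ι _ ≅
      Dual3.bddι X ⋙ ObjectProperty.ι _ ⋙ DCoh.RSheafHom E) := by
  obtain ⟨eE⟩ := hE
  haveI := KFlatLib.hasLpull f
  obtain ⟨eR⟩ := KiehlLib.nonempty_rpush_single f (Coh.structureModule Y) QCohLib.isQCoh_unit 0
  let eu : DerivedCategory.Q.obj (unitCx Y) ≅ DCoh.inD Y (Coh.structureModule Y) :=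
    ((DerivedCategory.singleFunctorIsoCompQ Y.Modules 0).app _).symm
  let e₁ : DerivedCategory.Q.obj E ≅ (DCoh.Rpush f).obj (DerivedCategory.Q.obj (unitCx Y)) :=
    eE ≪≫ eR.symm ≪≫ (DCoh.Rpush f).mapIso eu.symm
  obtain ⟨T⟩ := nonempty_lTensor_rpush_unit f E e₁
  -- quasi-coherence of `RHom(E, G)`
  have hpush : Coh.IsCoh ((Scheme.Modules.pushforward f).obj (Coh.structureModule Y)) :=
    QCohLib.isCoh_push_finite f _ (DevissLib.isCoh_structureModule Y)
  have hPC : ∀ m : ℤ, DCoh.IsPseudoCoherentD m (DCoh.toD X E) := fun m => by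
    refine PerfLib.isPC_of_iso eE.symm ?_
    haveI : (DCoh.inD X ((Scheme.Modules.pushforward f).obj (Coh.structureModule Y))).IsLE 0 :=
      inferInstance
    exact PerfNoethLib.isPC_of_coherent (b := 0) fun i _ => KiehlLib.isCohD_single_noeth 0 hpush i
  have hqc : ∀ G : (Dual3.IsBddBelowQ X).FullSubcategory,
      DCoh.IsQCohD ((DCoh.RSheafHom E).obj G.obj.obj) := fun G => by
    obtain ⟨n, hn⟩ := G.property
    haveI := hn
    exact S1115.result X E hPC G.obj.obj G.obj.property n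
  let R₂ : (Dual3.IsBddBelowQ X).FullSubcategory ⥤ DCoh.DQCoh X :=
    ObjectProperty.lift _ (Dual3.bddι X ⋙ ObjectProperty.ι _ ⋙ DCoh.RSheafHom E) hqc
  -- the adjunctions
  let Lp : DCoh.DQCoh X ⥤ DCoh.DQCoh Y :=
    ObjectProperty.lift _ (ObjectProperty.ι _ ⋙ DCoh.Lpull f) fun P => KFlatLib.isQCohD_lpull f _ P.property
  let adjQ : Lp ⊣ DCoh.RpushQ f hf :=
    (KFlatLib.lpullRpushAdj f).restrictFullyFaithful (ObjectProperty.fullyFaithfulι _)
      (ObjectProperty.fullyFaithfulι _) (Iso.refl _) (Iso.refl _)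
  let adj₁ := adjQ.comp adj
  let tE : ∀ P : DCoh.DQCoh X, (DCoh.LTensorCx E).obj P.obj ≅ ((Lp ⋙ DCoh.RpushQ f hf).obj P).obj :=
    fun P => T.app P
  let β : ∀ (P : DCoh.DQCoh X) (G : (Dual3.IsBddBelowQ X).FullSubcategory),
      (P ⟶ (a ⋙ DCoh.RpushQ f hf).obj G.obj) ≃ (P ⟶ R₂.obj G) := fun P G =>
    (adj₁.homEquiv P G.obj).symm.trans
      (((ObjectProperty.fullyFaithfulι _).homEquiv.trans ((tE P).homFromEquiv.symm)).trans
        (((DCoh.RSheafHomAdj E).homEquiv P.obj G.obj.obj).trans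
          ((ObjectProperty.fullyFaithfulι (DCoh.IsQCohD (X := X))).homEquiv (X := P) (Y := R₂.obj G)).symm))
  have hβ : ∀ (P : DCoh.DQCoh X) (G : (Dual3.IsBddBelowQ X).FullSubcategory)
      (x : P ⟶ (a ⋙ DCoh.RpushQ f hf).obj G.obj), (β P G x).hom =
        (DCoh.RSheafHomAdj E).homEquiv P.obj G.obj.obj
          ((tE P).hom ≫ ((adj₁.homEquiv P G.obj).symm x).hom) := fun P G x => rfl
  have hP : ∀ (P P' : DCoh.DQCoh X) (G : (Dual3.IsBddBelowQ X).FullSubcategory) (g : P ⟶ P')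
      (x : P' ⟶ (a ⋙ DCoh.RpushQ f hf).obj G.obj), β P G (g ≫ x) = g ≫ β P' G x := fun P P' G g x => by
    refine ObjectProperty.hom_ext _ ?_
    rw [ObjectProperty.FullSubcategory.comp_hom, hβ, hβ, Adjunction.homEquiv_naturality_left_symm,
      ObjectProperty.FullSubcategory.comp_hom, ← Adjunction.homEquiv_naturality_left]
    exact congrArg _ ((reassoc_of% (T.hom.naturality g)) _).symm
  have hG : ∀ (P : DCoh.DQCoh X) (G G' : (Dual3.IsBddBelowQ X).FullSubcategory) (g : G ⟶ G')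
      (x : P ⟶ (a ⋙ DCoh.RpushQ f hf).obj G.obj),
      β P G' (x ≫ (a ⋙ DCoh.RpushQ f hf).map g.hom) = β P G x ≫ R₂.map g := fun P G G' g x => by
    refine ObjectProperty.hom_ext _ ?_
    rw [ObjectProperty.FullSubcategory.comp_hom, hβ, hβ, Adjunction.homEquiv_naturality_right_symm,
      ObjectProperty.FullSubcategory.comp_hom]
    exact (congrArg _ (Category.assoc _ _ _).symm).trans ((DCoh.RSheafHomAdj E).homEquiv_naturality_right _ _)
  let comp : ∀ G : (Dual3.IsBddBelowQ X).FullSubcategory,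
      (a ⋙ DCoh.RpushQ f hf).obj G.obj ≅ R₂.obj G := fun G =>
    Yoneda.fullyFaithful.preimageIso (NatIso.ofComponents (fun P => (β P.unop G).toIso)
      (fun g => by
        ext x
        exact hP _ _ G g.unop x))
  have hc : ∀ G, (comp G).hom = β _ G (𝟙 _) := fun G => rfl
  refine ⟨Functor.isoWhiskerRight
    (NatIso.ofComponents comp fun {G G'} g => ?_ : Dual3.bddι X ⋙ a ⋙ DCoh.RpushQ f hf ≅ R₂) (ObjectProperty.ι _)⟩
  change (a ⋙ DCoh.RpushQ f hf).map g.hom ≫ (comp G').hom = (comp G).hom ≫ R₂.map g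
  rw [hc, hc, ← hP, Category.comp_id, ← hG, Category.id_comp]

end FinDualFunLib

end
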