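import Groth.Agent.Dual3Lib.PushHom
import Groth.Agent.Dual3Lib.SerreMain
import Groth.Agent.Dual3Lib.LpullTensorNat
import Groth.Agent.KiehlLib.HomAcyclic

/-!
# `- ⊗^L f_*O ≅ Rf_* Lf^*` on quasi-coherent complexes, naturally
-/

set_option autoImplicit false
set_option linter.style.haveILetI false
set_option backward.isDefEq.respectTransparency false
set_option backward.isDefEq.respectTransparency.types false
set_option maxHeartbeats 1000000

universe u

open CategoryTheory CategoryTheory.Limits AlgebraicGeometry CategoryTheory.Pretriangulated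
open HomologicalComplex
open Groth.Agent.DerLib Groth.Agent.PerfDualLib Groth.Agent.ProjFormLib Groth.Agent

attribute [local instance] HasDerivedCategory.standard

noncomputable section

namespace FinDualFunLib

variable {X Y : Scheme.{u}} (f : X ⟶ Y)

/-- An isomorphism on K-flat representatives gives one of functors on `D_QCoh`. -/
theorem exists_natIso_DQCoh {D : Type*} [Category D] (F G : DCoh.D Y ⥤ D)
    (e : ∀ (P : Cx Y), DCoh.IsKFlat P → DCoh.IsQCohD (DerivedCategory.Q.obj P) →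
      (F.obj (DerivedCategory.Q.obj P) ≅ G.obj (DerivedCategory.Q.obj P)))
    (he : ∀ (P P' : Cx Y) (h₁ : DCoh.IsKFlat P) (h₂ : DCoh.IsQCohD (DerivedCategory.Q.obj P))
      (h₁' : DCoh.IsKFlat P') (h₂' : DCoh.IsQCohD (DerivedCategory.Q.obj P')) (μ : P ⟶ P'),
      F.map (DerivedCategory.Q.map μ) ≫ (e P' h₁' h₂').hom =
        (e P h₁ h₂).hom ≫ G.map (DerivedCategory.Q.map μ)) :
    Nonempty (ObjectProperty.ι (DCoh.IsQCohD (X := Y)) ⋙ F ≅ ObjectProperty.ι DCoh.IsQCohD ⋙ G) := by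
  choose J hJ eJ using fun P : DCoh.DQCoh Y => KInjUse.exists_iso_Q_kInjective P.obj
  let R : DCoh.DQCoh Y → Cx Y := fun P => (KFlatLib.resP Y).obj (J P)
  have hR : ∀ P, DCoh.IsKFlat (R P) := fun P => (KFlatLib.good_resP (J P)).1
  let j : ∀ P : DCoh.DQCoh Y, DerivedCategory.Q.obj (R P) ≅ P.obj := fun P =>
    haveI := KFlatLib.quasiIso_resψ (X := Y) (J P)
    asIso (DerivedCategory.Q.map ((KFlatLib.resψ Y).app (J P))) ≪≫ (eJ P).some.symm
  have hRq : ∀ P, DCoh.IsQCohD (DerivedCategory.Q.obj (R P)) := fun P =>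
    KFlatLib.isQCohD_iso (j P).symm P.property
  refine ⟨NatIso.ofComponents
    (fun P => F.mapIso (j P).symm ≪≫ e (R P) (hR P) (hRq P) ≪≫ G.mapIso (j P)) fun {P P'} x => ?_⟩
  haveI := hJ P'
  obtain ⟨m, hm⟩ := KInjUse.Q_map_surjective (J P) (J P')
    ((eJ P).some.inv ≫ x.hom ≫ (eJ P').some.hom)
  let μ : R P ⟶ R P' := (KFlatLib.resP Y).map m
  have hμ : DerivedCategory.Q.map μ ≫ (j P').hom = (j P).hom ≫ x.hom := by
    haveI := KFlatLib.quasiIso_resψ (X := Y) (J P)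
    haveI := KFlatLib.quasiIso_resψ (X := Y) (J P')
    have hn := congrArg DerivedCategory.Q.map ((KFlatLib.resψ Y).naturality m)
    rw [Functor.map_comp, Functor.map_comp] at hn
    simp only [j, Iso.trans_hom, Iso.symm_hom, asIso_hom, Category.assoc]
    rw [← reassoc_of% hn.symm]
    refine congrArg (DerivedCategory.Q.map ((KFlatLib.resψ Y).app (J P)) ≫ ·) ?_
    change DerivedCategory.Q.map m ≫ _ = _
    rw [hm]
    simp
  have hx : x.hom ≫ (j P').inv = (j P).inv ≫ DerivedCategory.Q.map μ := by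
    rw [Iso.comp_inv_eq, Category.assoc, hμ, Iso.inv_hom_id_assoc]
  simp only [Functor.comp_map, Iso.trans_hom, Functor.mapIso_hom, Iso.symm_hom]
  change F.map x.hom ≫ F.map (j P').inv ≫ _ = (F.map (j P).inv ≫ _ ≫ _) ≫ G.map x.hom
  rw [← Functor.map_comp_assoc, hx, Functor.map_comp, Category.assoc, Category.assoc, Category.assoc,
    ← G.map_comp, ← hμ, G.map_comp, reassoc_of% (he _ _ (hR P) (hRq P) (hR P') (hRq P') μ)]

variable [CompactSpace X] [QuasiSeparatedSpace X] [CompactSpace Y] [QuasiSeparatedSpace Y]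
  [QuasiCompact f] [QuasiSeparated f] [DCoh.HasRpush f] [DCoh.HasLpull f]

/-- The projection formula against a model of `Rf_*O`, as functors on `D_QCoh`. -/
theorem nonempty_lTensor_rpush_unit (E : Cx Y) [DCoh.HasLTensorCx E]
    (eE : DerivedCategory.Q.obj E ≅ (DCoh.Rpush f).obj (DerivedCategory.Q.obj (unitCx X))) :
    Nonempty (ObjectProperty.ι (DCoh.IsQCohD (X := Y)) ⋙ DCoh.LTensorCx E ≅
      ObjectProperty.ι DCoh.IsQCohD ⋙ DCoh.Lpull f ⋙ DCoh.Rpush f) := by
  obtain ⟨I, hI, ⟨eI⟩⟩ := KInjUse.exists_iso_Q_kInjective (DerivedCategory.Q.obj (unitCx X))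
  haveI := hI
  let A := (KFlatLib.resP Y).obj ((pushC f).obj I)
  let ψ : A ⟶ (pushC f).obj I := (KFlatLib.resψ Y).app ((pushC f).obj I)
  haveI : QuasiIso ψ := KFlatLib.quasiIso_resψ _
  have hA : DCoh.IsKFlat A := (KFlatLib.good_resP _).1
  haveI := KFlatLib.hasLTensorCx A
  haveI := KFlatLib.hasLTensorCx I
  haveI := Dual3Lib.isIso_pushQ f I
  let eA : DerivedCategory.Q.obj A ≅ DerivedCategory.Q.obj E :=
    asIso (DerivedCategory.Q.map ψ) ≪≫ asIso (Dual3Lib.pushQ f I) ≪≫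
      (DCoh.Rpush f).mapIso eI.symm ≪≫ eE.symm
  obtain ⟨cA⟩ := nonempty_lTensor_congr_iso eA
  obtain ⟨uI⟩ := Dual3Lib.Serre.nonempty_lTensor_unit I eI.symm
  obtain ⟨γX, hγX⟩ := Dual3Lib.exists_gamma I
  obtain ⟨γY, hγY⟩ := Dual3Lib.exists_gamma A
  have hIq : DCoh.IsQCohD (DerivedCategory.Q.obj I) :=
    KFlatLib.isQCohD_iso eI (KFlatLib.isQCohD_iso
      ((DerivedCategory.singleFunctorIsoCompQ X.Modules 0).app (Coh.structureModule X))
      (PerfBaseLib.isQCohD_inD _ QCohLib.isQCoh_unit))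
  let back : ∀ P : Cx Y, DCoh.IsKFlat P →
      (DerivedCategory.Q.obj ((Gen.tL (Tb X) I).obj ((pullC f).obj P)) ≅
        (DCoh.Lpull f).obj (DerivedCategory.Q.obj P)) := fun P hP =>
    (γX _ (KFlatLib.isKFlat_pull f hP)).symm ≪≫ uI.app _ ≪≫ (KFlatLib.lpullObjIso f P hP).symm
  have hback : ∀ (P P' : Cx Y) (hP : DCoh.IsKFlat P) (hP' : DCoh.IsKFlat P') (μ : P ⟶ P'),
      DerivedCategory.Q.map ((Gen.tL (Tb X) I).map ((pullC f).map μ)) ≫ (back P' hP').hom =
        (back P hP).hom ≫ (DCoh.Lpull f).map (DerivedCategory.Q.map μ) := by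
    intro P P' hP hP' μ
    have h1 : DerivedCategory.Q.map ((Gen.tL (Tb X) I).map ((pullC f).map μ)) ≫
        (γX _ (KFlatLib.isKFlat_pull f hP')).inv =
        (γX _ (KFlatLib.isKFlat_pull f hP)).inv ≫
          (DCoh.LTensorCx I).map (DerivedCategory.Q.map ((pullC f).map μ)) := by
      rw [Iso.comp_inv_eq, Category.assoc, hγX _ _ (KFlatLib.isKFlat_pull f hP) (KFlatLib.isKFlat_pull f hP'),
        Iso.inv_hom_id_assoc]
    have h2 : DerivedCategory.Q.map ((pullC f).map μ) ≫ (KFlatLib.lpullObjIso f P' hP').inv =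
        (KFlatLib.lpullObjIso f P hP).inv ≫ (DCoh.Lpull f).map (DerivedCategory.Q.map μ) := by
      rw [Iso.comp_inv_eq, Category.assoc, LpullTildeLib.lpullObjIso_natural f hP hP' μ,
        Iso.inv_hom_id_assoc]
    simp only [back, Iso.trans_hom, Iso.symm_hom, Iso.app_hom, Category.assoc]
    rw [reassoc_of% h1]
    refine congrArg (_ ≫ ·) ?_
    rw [← Category.assoc, uI.hom.naturality, Functor.id_map, Category.assoc]
    exact congrArg (_ ≫ ·) h2
  let θ : ∀ P : Cx Y, DCoh.IsKFlat P → DCoh.IsQCohD (DerivedCategory.Q.obj P) →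
      ((DCoh.LTensorCx E).obj (DerivedCategory.Q.obj P) ≅
        (DCoh.Lpull f ⋙ DCoh.Rpush f).obj (DerivedCategory.Q.obj P)) := fun P hP hPq =>
    haveI := Dual3Lib.isIso_beta_of_qcoh f ψ hA hIq P hP hPq
    cA.symm.app _ ≪≫ γY P hP ≪≫ asIso (Dual3Lib.beta f ψ P) ≪≫ (DCoh.Rpush f).mapIso (back P hP)
  refine exists_natIso_DQCoh _ _ θ fun P P' h₁ h₂ h₁' h₂' μ => ?_
  simp only [θ, Iso.trans_hom, asIso_hom, Functor.mapIso_hom, Iso.app_hom, Iso.symm_hom,
    Functor.comp_map, Category.assoc]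
  rw [← (DCoh.Rpush f).map_comp, ← hback P P' h₁ h₁' μ, Functor.map_comp,
    ← reassoc_of% (Dual3Lib.beta_natural f ψ μ), ← reassoc_of% (hγY P P' h₁ h₁' μ)]
  exact (reassoc_of% (cA.inv.naturality (DerivedCategory.Q.map μ))) _

end FinDualFunLib

end
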